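import Groth.Agent.Variety.K421.DvrPrincipal
import Mathlib.RingTheory.Unramified.LocalRing
import Mathlib.RingTheory.Etale.Basic
import Mathlib.RingTheory.Smooth.Flat
import Mathlib.RingTheory.Ideal.GoingUp
import Mathlib.FieldTheory.Galois.Infinite
import Mathlib.FieldTheory.IsSepClosed

/-!
# Radical elements generated by a point of a finite étale algebra over a discrete valuation ring

If `φ : E → Ks` is a point of a finite étale algebra `E` over the discrete valuation ring `O` with fraction field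
`K`, and `β ∈ Ks` is fixed by the stabilizer of `φ` and `β ^ l = b ∈ K`, then the valuation of `b` is divisible by `l`.
-/

set_option autoImplicit false
universe u

open IsLocalRing

namespace K275.DvrAlg

variable {O : Type u} [CommRing O] [IsDomain O] [IsDiscreteValuationRing O] {E : Type u} [CommRing E] [Algebra O E]

theorem exists_dvr [Module.Finite O E] [Algebra.Etale O E] (n : Ideal E) [n.IsMaximal] (ϖ : O)
    (hϖ : Irreducible ϖ) : ∃ _ : IsDomain (Localization.AtPrime n), IsDiscreteValuationRing (Localization.AtPrime n) ∧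
      Ideal.span {algebraMap O (Localization.AtPrime n) ϖ} = maximalIdeal (Localization.AtPrime n) := by
  have hint : Algebra.IsIntegral O E := inferInstance
  have hmax : (n.comap (algebraMap O E)).IsMaximal := Ideal.isMaximal_comap_of_isIntegral_of_isMaximal n
  have hcomap : n.comap (algebraMap O E) = maximalIdeal O := eq_maximalIdeal hmax
  have hloc : IsLocalHom (algebraMap O (Localization.AtPrime n)) := by
    refine ((local_hom_TFAE (algebraMap O (Localization.AtPrime n))).out 4 0).mp ?_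
    rw [IsScalarTower.algebraMap_eq O E (Localization.AtPrime n), ← Ideal.comap_comap]
    have h2 : Ideal.comap (algebraMap E (Localization.AtPrime n)) (maximalIdeal (Localization.AtPrime n)) = n :=
      IsLocalization.AtPrime.under_maximalIdeal (Localization.AtPrime n) n
    rw [h2, hcomap]
  have hunr : Algebra.FormallyUnramified O (Localization.AtPrime n) :=
    Algebra.FormallyUnramified.comp O E (Localization.AtPrime n)
  have hess : Algebra.EssFiniteType O (Localization.AtPrime n) := inferInstance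
  have hnoeE : IsNoetherianRing E := IsNoetherianRing.of_finite O E
  have hnoe : IsNoetherianRing (Localization.AtPrime n) := IsLocalization.isNoetherianRing n.primeCompl _ hnoeE
  have h1 : Ideal.span {algebraMap O (Localization.AtPrime n) ϖ} = maximalIdeal (Localization.AtPrime n) := by
    rw [← Algebra.FormallyUnramified.map_maximalIdeal (R := O) (S := Localization.AtPrime n), hϖ.maximalIdeal_eq,
      Ideal.map_span, Set.image_singleton]
  have hflat : Module.Flat O (Localization.AtPrime n) := Module.Flat.trans O E (Localization.AtPrime n)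
  have hreg : algebraMap O (Localization.AtPrime n) ϖ ∈ nonZeroDivisors (Localization.AtPrime n) := by
    have h3 : IsSMulRegular (Localization.AtPrime n) (algebraMap O (Localization.AtPrime n) ϖ) :=
      IsSMulRegular.of_flat (fun a b h => mul_left_cancel₀ hϖ.ne_zero h)
    rw [mem_nonZeroDivisors_iff_right]
    intro x hx
    refine h3 ?_
    simp only [smul_eq_mul, mul_zero]
    rw [mul_comm]
    exact hx
  obtain ⟨h2, h3⟩ := K421.DvrPrincipal.isDiscreteValuationRing_of_principal _ _ h1 hreg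
  exact ⟨h2, h3, h1⟩

/-- The fractions of the image of a ring in a field form an intermediate field. -/
def fracRange (K : Type u) {B Ω : Type u} [Field K] [Field Ω] [Algebra K Ω] [CommRing B] (ψ : B →+* Ω)
    (hK : ∀ a : K, ∃ x y : B, algebraMap K Ω a = ψ x / ψ y) : IntermediateField K Ω where
  carrier := {z | ∃ x y : B, ψ y ≠ 0 ∧ z = ψ x / ψ y}
  mul_mem' := by
    rintro _ _ ⟨x, y, h, rfl⟩ ⟨x', y', h', rfl⟩
    exact ⟨x * x', y * y', by rw [map_mul]; exact mul_ne_zero h h', by rw [map_mul, map_mul]; field_simp⟩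
  add_mem' := by
    rintro _ _ ⟨x, y, h, rfl⟩ ⟨x', y', h', rfl⟩
    exact ⟨x * y' + x' * y, y * y', by rw [map_mul]; exact mul_ne_zero h h', by
      rw [map_add, map_mul, map_mul, map_mul]; field_simp⟩
  algebraMap_mem' := by
    intro a
    obtain ⟨x, y, h⟩ := hK a
    by_cases hy : ψ y = 0
    · rw [hy, div_zero] at h
      exact ⟨0, 1, by simp, by simp [h]⟩
    · exact ⟨x, y, hy, h⟩
  inv_mem' := by
    rintro _ ⟨x, y, h, rfl⟩
    by_cases hx : ψ x = 0
    · exact ⟨0, 1, by simp, by simp [hx]⟩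
    · exact ⟨y, x, hx, by rw [inv_div]⟩

theorem exists_unit_pow {K Ks : Type u} [Field K] [Algebra O K] [IsFractionRing O K] [Field Ks] [Algebra K Ks]
    [IsGalois K Ks] [Module.Finite O E] [Algebra.Etale O E] (φ : E →+* Ks)
    (hφ : φ.comp (algebraMap O E) = (algebraMap K Ks).comp (algebraMap O K)) (l : ℕ) (β : Ks) (b : K) (hb : b ≠ 0)
    (hβ : β ^ l = algebraMap K Ks b)
    (hfix : ∀ σ : Ks ≃ₐ[K] Ks, (∀ e, σ (φ e) = φ e) → σ β = β) (ϖ : O) (hϖ : Irreducible ϖ) :
    ∃ (n : ℤ) (u : Oˣ), b = algebraMap O K ϖ ^ ((l : ℤ) * n) * algebraMap O K u := by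
  by_cases hl : l = 0
  · subst hl
    rw [pow_zero] at hβ
    have h1 : b = 1 := (algebraMap K Ks).injective (by rw [← hβ, map_one])
    exact ⟨0, 1, by simp [h1]⟩
  have hker : (RingHom.ker φ).IsPrime := RingHom.ker_isPrime φ
  obtain ⟨n, hn, hqn⟩ := Ideal.exists_le_maximal (RingHom.ker φ) hker.ne_top
  obtain ⟨hd, hdvr, hmax⟩ := exists_dvr (O := O) n ϖ hϖ
  let B := Localization.AtPrime n
  have hu : ∀ y : n.primeCompl, IsUnit (φ y) := fun y =>
    IsUnit.mk0 _ fun h => y.2 (hqn h)
  let ψ : B →+* Ks := IsLocalization.lift (M := n.primeCompl) hu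
  have hψ : ∀ e : E, ψ (algebraMap E B e) = φ e := fun e => IsLocalization.lift_eq _ _
  have hψO : ∀ a : O, ψ (algebraMap O B a) = algebraMap K Ks (algebraMap O K a) := fun a => by
    rw [IsScalarTower.algebraMap_apply O E B, hψ]
    exact RingHom.congr_fun hφ a
  have hinjK : Function.Injective (algebraMap O K) := IsFractionRing.injective O K
  have hϖB : ψ (algebraMap O B ϖ) ≠ 0 := by
    rw [hψO]
    exact (map_ne_zero _).2 ((map_ne_zero_iff _ hinjK).2 hϖ.ne_zero)
  have hϖ0 : algebraMap O B ϖ ≠ 0 := fun h => hϖB (by rw [h, map_zero])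
  have hirr : Irreducible (algebraMap O B ϖ) := by
    rw [IsDiscreteValuationRing.irreducible_iff_uniformizer]
    exact hmax.symm
  have hform : ∀ x : B, x ≠ 0 → ∃ (i : ℕ) (u : Bˣ), x = algebraMap O B ϖ ^ i * u := fun x hx => by
    obtain ⟨i, u, h⟩ := IsDiscreteValuationRing.eq_unit_mul_pow_irreducible hx hirr
    exact ⟨i, u, by rw [h, mul_comm]⟩
  have hinj : Function.Injective ψ := by
    rw [injective_iff_map_eq_zero]
    intro x hx
    by_contra h
    obtain ⟨i, u, rfl⟩ := hform x h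
    rw [map_mul, map_pow] at hx
    have h2 : IsUnit (ψ u) := u.isUnit.map ψ
    exact mul_ne_zero (pow_ne_zero _ hϖB) h2.ne_zero hx
  have hK : ∀ a : K, ∃ x y : B, algebraMap K Ks a = ψ x / ψ y := fun a => by
    obtain ⟨x, y, _, rfl⟩ := IsFractionRing.div_surjective (A := O) a
    exact ⟨algebraMap O B x, algebraMap O B y, by rw [hψO, hψO, map_div₀]⟩
  have hβL : β ∈ fracRange K ψ hK := by
    rw [← InfiniteGalois.fixedField_fixingSubgroup (fracRange K ψ hK), IntermediateField.mem_fixedField_iff]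
    intro σ hσ
    refine hfix σ fun e => ?_
    exact hσ ⟨φ e, ⟨algebraMap E B e, 1, by simp, by rw [hψ, map_one, div_one]⟩⟩
  obtain ⟨x, y, hy, hxy⟩ := hβL
  have hβ0 : β ≠ 0 := by
    rintro rfl
    rw [zero_pow hl] at hβ
    exact hb ((map_eq_zero _).1 hβ.symm)
  have hx : ψ x ≠ 0 := fun h => hβ0 (by rw [hxy, h, zero_div])
  have hx0 : x ≠ 0 := fun h => hx (by rw [h, map_zero])
  have hy0 : y ≠ 0 := fun h => hy (by rw [h, map_zero])
  obtain ⟨i, u, hi⟩ := hform x hx0
  obtain ⟨j, v, hj⟩ := hform y hy0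
  have hvne : ψ v ≠ 0 := (v.isUnit.map ψ).ne_zero
  have hune : ψ u ≠ 0 := (u.isUnit.map ψ).ne_zero
  -- `β = ϖ ^ (i - j) * w`
  obtain ⟨w, hw⟩ : ∃ w : Bˣ, β = ψ (algebraMap O B ϖ) ^ ((i : ℤ) - j) * ψ w := by
    refine ⟨u * v⁻¹, ?_⟩
    have hv : ψ ((v⁻¹ : Bˣ) : B) = (ψ v)⁻¹ := by
      refine eq_inv_of_mul_eq_one_left ?_
      rw [← map_mul, Units.inv_mul, map_one]
    rw [hxy, hi, hj, zpow_sub₀ hϖB, Units.val_mul, map_mul, map_mul, map_mul, map_pow, map_pow, hv, zpow_natCast,
      zpow_natCast]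
    field_simp
  -- the valuation of `b`
  obtain ⟨m, t, ht⟩ : ∃ (m : ℤ) (t : Oˣ), b = algebraMap O K ϖ ^ m * algebraMap O K t := by
    obtain ⟨c, d, hd', rfl⟩ := IsFractionRing.div_surjective (A := O) b
    have hd0 : d ≠ 0 := nonZeroDivisors.ne_zero hd'
    have hc0 : c ≠ 0 := fun h => hb (by rw [h, map_zero, zero_div])
    obtain ⟨i', u', h1⟩ := IsDiscreteValuationRing.eq_unit_mul_pow_irreducible hc0 hϖ
    obtain ⟨j', v', h2⟩ := IsDiscreteValuationRing.eq_unit_mul_pow_irreducible hd0 hϖ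
    have hϖK : algebraMap O K ϖ ≠ 0 := (map_ne_zero_iff _ hinjK).2 hϖ.ne_zero
    refine ⟨(i' : ℤ) - j', u' * v'⁻¹, ?_⟩
    have hv' : algebraMap O K ((v'⁻¹ : Oˣ) : O) = (algebraMap O K v')⁻¹ := by
      refine eq_inv_of_mul_eq_one_left ?_
      rw [← map_mul, Units.inv_mul, map_one]
    have hvne' : algebraMap O K v' ≠ 0 := (v'.isUnit.map (algebraMap O K)).ne_zero
    rw [h1, h2, zpow_sub₀ hϖK, Units.val_mul, map_mul, map_mul, map_mul, map_pow, map_pow, hv', zpow_natCast,
      zpow_natCast]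
    field_simp
  have key : ψ (algebraMap O B ϖ) ^ (m - (l : ℤ) * ((i : ℤ) - j)) * ψ (algebraMap O B t) = ψ ((w ^ l : Bˣ) : B) := by
    have h1 : ψ (algebraMap O B ϖ) ^ m * ψ (algebraMap O B t) =
        ψ (algebraMap O B ϖ) ^ ((l : ℤ) * ((i : ℤ) - j)) * ψ ((w ^ l : Bˣ) : B) := by
      rw [hψO, hψO, ← map_zpow₀, ← map_mul, ← ht, ← hβ, hw, mul_pow, Units.val_pow_eq_pow_val, map_pow,
        ← zpow_natCast, ← zpow_mul, mul_comm ((i : ℤ) - j), hψO]
    rw [zpow_sub₀ hϖB, div_mul_eq_mul_div, h1, mul_div_assoc, mul_comm, div_mul_cancel₀]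
    exact zpow_ne_zero _ hϖB
  have hm : m = (l : ℤ) * ((i : ℤ) - j) := by
    have hnu : ¬ IsUnit (algebraMap O B ϖ) := hirr.not_isUnit
    have htu : IsUnit (algebraMap O B (t : O)) := t.isUnit.map _
    rcases lt_trichotomy (m - (l : ℤ) * ((i : ℤ) - j)) 0 with h | h | h
    · exfalso
      obtain ⟨k, hk⟩ : ∃ k : ℕ, m - (l : ℤ) * ((i : ℤ) - j) = -((k : ℤ) + 1) :=
        ⟨(-(m - (l : ℤ) * ((i : ℤ) - j)) - 1).toNat, by omega⟩
      rw [hk, zpow_neg] at key
      have h2 : ψ (algebraMap O B t) = ψ (algebraMap O B ϖ ^ (k + 1) * ((w ^ l : Bˣ) : B)) := by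
        rw [map_mul, map_pow, ← key, ← zpow_natCast]
        push_cast
        rw [mul_inv_cancel_left₀]
        exact zpow_ne_zero _ hϖB
      have h3 := hinj h2
      rw [h3] at htu
      have h4 : IsUnit (algebraMap O B ϖ ^ (k + 1)) := isUnit_of_mul_isUnit_left htu
      exact hnu ((isUnit_pow_iff (Nat.succ_ne_zero k)).1 h4)
    · omega
    · exfalso
      obtain ⟨k, hk⟩ : ∃ k : ℕ, m - (l : ℤ) * ((i : ℤ) - j) = (k : ℤ) + 1 :=
        ⟨((m - (l : ℤ) * ((i : ℤ) - j)) - 1).toNat, by omega⟩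
      rw [hk] at key
      have h2 : ψ (algebraMap O B ϖ ^ (k + 1) * algebraMap O B t) = ψ ((w ^ l : Bˣ) : B) := by
        rw [map_mul, map_pow, ← key, ← zpow_natCast]
        push_cast
        rfl
      have h3 := hinj h2
      have h5 : IsUnit (algebraMap O B ϖ ^ (k + 1) * algebraMap O B t) := by
        rw [h3]
        exact (w ^ l).isUnit
      have h4 : IsUnit (algebraMap O B ϖ ^ (k + 1)) := isUnit_of_mul_isUnit_left h5
      exact hnu ((isUnit_pow_iff (Nat.succ_ne_zero k)).1 h4)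
  exact ⟨(i : ℤ) - j, t, by rw [← hm]; exact ht⟩

end K275.DvrAlg
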