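import Groth.Agent.S3259
import Groth.Agent.S1866
import Groth.Agent.S5941
import Groth.Agent.Grpsch.AbBC
import Groth.Agent.Pic13.H508.QuotGeneric
import Groth.Agent.MultTori.K275.DvrAlg

/-!
# Spreading out of the multiplication by `l` on an abelian variety

* `exists_closure`: the scheme-theoretic closure of a closed subscheme of the generic fibre.
* `exists_models`: for an abelian variety `A` over the fraction field `K` of the Noetherian domain `R`: proper schemes
  `Z`, `W` over `R` with generic fibre `A` and a morphism `f : W ⟶ Z` with generic fibre the multiplication by `l`,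
  étale over `D(r)` for some `r ≠ 0`.
-/

set_option autoImplicit false
universe u

open CategoryTheory Limits MonoidalCategory CartesianMonoidalCategory MonObj AlgebraicGeometry

namespace K275.Cover

open Groth.Agent.Dix.FlatMonoStalk Groth.Agent.Dix.ProjProper

/-- The scheme-theoretic closure of a closed subscheme `X` of `T` in `S`, for a flat quasi-compact monomorphism
`T ⟶ S`. -/
theorem exists_closure_aux {S T X : Scheme.{u}} (g : T ⟶ S) [Flat g] [Mono g] [QuasiCompact g]
    (i : X ⟶ T) [IsClosedImmersion i] :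
    ∃ (Z : Scheme.{u}) (j : Z ⟶ S) (c : X ⟶ Z), IsClosedImmersion j ∧ IsPullback c i j g := by
  have hqc : QuasiCompact (i ≫ g) := inferInstance
  have hw : (i ≫ g).toImage ≫ (i ≫ g).imageι = i ≫ g := Scheme.Hom.toImage_imageι _
  have hdom : IsSchemeTheoreticallyDominant (i ≫ g).toImage := isSchemeTheoreticallyDominant_toImage _
  refine ⟨(i ≫ g).image, (i ≫ g).imageι, (i ≫ g).toImage, inferInstance, ?_⟩
  let c : X ⟶ pullback (i ≫ g).imageι g := pullback.lift (i ≫ g).toImage i hw
  have hc1 : c ≫ pullback.fst (i ≫ g).imageι g = (i ≫ g).toImage := pullback.lift_fst _ _ _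
  have hc2 : c ≫ pullback.snd (i ≫ g).imageι g = i := pullback.lift_snd _ _ _
  have hfl : Flat (pullback.fst (i ≫ g).imageι g) := inferInstance
  have hmono : Mono (pullback.fst (i ≫ g).imageι g) := inferInstance
  have hsq : IsPullback (𝟙 X) c (i ≫ g).toImage (pullback.fst (i ≫ g).imageι g) := by
    refine ⟨⟨by rw [Category.id_comp, hc1]⟩, ⟨PullbackCone.IsLimit.mk _ (fun s => s.fst) ?_ ?_ ?_⟩⟩
    · intro s; simp
    · intro s
      rw [← cancel_mono (pullback.fst (i ≫ g).imageι g), Category.assoc, hc1, s.condition]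
    · intro s m h1 h2
      simpa using h1
  have hcdom : IsSchemeTheoreticallyDominant c := .of_isPullback hsq
  have hcci : IsClosedImmersion c := by
    have : IsClosedImmersion (c ≫ pullback.snd (i ≫ g).imageι g) := by rw [hc2]; infer_instance
    exact IsClosedImmersion.of_comp_isClosedImmersion c (pullback.snd (i ≫ g).imageι g)
  have hciso : IsIso c := IsClosedImmersion.isIso_iff_ker_eq_bot.mpr hcdom.ker_eq_bot
  exact IsPullback.of_iso_pullback ⟨hw⟩ (asIso c) hc1 hc2

/-- The scheme-theoretic closure of a closed subscheme of the generic fibre. -/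
theorem exists_closure {S T P P' X : Scheme.{u}} (g : T ⟶ S) [Flat g] [Mono g] [QuasiCompact g]
    {m : P' ⟶ P} {t' : P' ⟶ T} {t : P ⟶ S} (hP : IsPullback m t' t g) (i : X ⟶ P') [IsClosedImmersion i] :
    ∃ (Z : Scheme.{u}) (j : Z ⟶ P) (c : X ⟶ Z), IsClosedImmersion j ∧ c ≫ j = i ≫ m ∧
      IsPullback c (i ≫ t') (j ≫ t) g := by
  have h1 : Flat m := MorphismProperty.of_isPullback hP.flip inferInstance
  have h2 : QuasiCompact m := MorphismProperty.of_isPullback hP.flip inferInstance
  have h3 : Mono m := MorphismProperty.of_isPullback (P := .monomorphisms _) hP.flip inferInstance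
  obtain ⟨Z, j, c, hj, hc⟩ := exists_closure_aux m i
  exact ⟨Z, j, c, hj, hc.w, hc.paste_vert hP⟩

section models

variable {R K : Type u} [CommRing R] [IsDomain R] [IsNoetherianRing R] [Field K] [Algebra R K] [IsFractionRing R K]

variable (R K) in
/-- The inclusion of the generic point. -/
noncomputable abbrev gg : Spec (CommRingCat.of K) ⟶ Spec (CommRingCat.of R) :=
  Spec.map (CommRingCat.ofHom (algebraMap R K))

omit [IsNoetherianRing R] in
variable (R K) in
theorem gg_closedPoint : gg R K (IsLocalRing.closedPoint K) = genericPoint (Spec (CommRingCat.of R)) := by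
  rw [genericPoint_eq_bot_of_affine]
  refine PrimeSpectrum.ext ?_
  change Ideal.comap (algebraMap R K) (IsLocalRing.maximalIdeal K) = ⊥
  rw [IsLocalRing.maximalIdeal_eq_bot, Ideal.comap_bot_of_injective _ (IsFractionRing.injective R K)]

omit [IsDomain R] [IsNoetherianRing R] in
variable (R K) in
theorem flat_gg : Flat (gg R K) := by
  refine Flat.SpecMap_iff.2 ?_
  have := IsLocalization.flat K (nonZeroDivisors R)
  exact RingHom.flat_algebraMap_iff.2 this

omit [IsDomain R] [IsNoetherianRing R] in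
variable (R K) in
theorem mono_gg : Mono (gg R K) := by
  have : Epi (CommRingCat.ofHom (algebraMap R K)) := IsLocalization.epi (nonZeroDivisors R) K
  infer_instance

omit [IsDomain R] [IsNoetherianRing R] in
/-- The relative graph of an endomorphism of the generic fibre. -/
theorem exists_graph {A : Scheme.{u}} (a : A ⟶ Spec (CommRingCat.of K)) [IsSeparated a] (φ : A ⟶ A) (hφ : φ ≫ a = a)
    {Z : Scheme.{u}} (q : Z ⟶ Spec (CommRingCat.of R)) [IsProper q] (t : A ⟶ Z) (h : IsPullback t a q (gg R K)) :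
    ∃ (W : Scheme.{u}) (f : W ⟶ Z) (w : A ⟶ W), IsProper f ∧ IsPullback w φ f t := by
  have hfl : Flat (gg R K) := flat_gg R K
  have hmono : Mono (gg R K) := mono_gg R K
  let m : pullback a a ⟶ pullback q q :=
    pullback.lift (pullback.fst a a ≫ t) (pullback.snd a a ≫ t) (by
      rw [Category.assoc, Category.assoc, h.w, pullback.condition_assoc])
  have hm1 : m ≫ pullback.fst q q = pullback.fst a a ≫ t := pullback.lift_fst _ _ _
  have hm2 : m ≫ pullback.snd q q = pullback.snd a a ≫ t := pullback.lift_snd _ _ _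
  have h1 : IsPullback (pullback.snd a a ≫ t) (pullback.fst a a) q (a ≫ gg R K) :=
    (IsPullback.of_hasPullback a a).flip.paste_horiz h
  have h2 : IsPullback m (pullback.fst a a) (pullback.fst q q) t := by
    refine IsPullback.of_right (h₁₂ := pullback.snd q q) (v₁₃ := q) (h₂₂ := q) ?_ hm1
      (IsPullback.of_hasPullback q q).flip
    rw [hm2, h.w]
    exact h1
  have h3 : IsPullback m (pullback.fst a a ≫ a) (pullback.fst q q ≫ q) (gg R K) := h2.paste_vert h
  let i : A ⟶ pullback a a := pullback.lift (𝟙 A) φ (by rw [Category.id_comp, hφ])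
  have hi1 : i ≫ pullback.fst a a = 𝟙 A := pullback.lift_fst _ _ _
  have hi2 : i ≫ pullback.snd a a = φ := pullback.lift_snd _ _ _
  have hi : IsClosedImmersion i := by
    have : IsClosedImmersion (i ≫ pullback.fst a a) := by rw [hi1]; infer_instance
    exact IsClosedImmersion.of_comp i (pullback.fst a a)
  obtain ⟨W, j, w, hj, hw, hW⟩ := exists_closure (gg R K) h3 i
  refine ⟨W, j ≫ pullback.snd q q, w, inferInstance, ?_⟩
  refine IsPullback.of_bot (v₂₁ := a) (v₂₂ := q) (h₃₁ := gg R K) ?_ ?_ h
  · rw [hφ, Category.assoc, ← pullback.condition]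
    rw [reassoc_of% hi1] at hW
    exact hW
  · rw [reassoc_of% hw, hm2, reassoc_of% hi2]

/-- Spreading out of the multiplication by `l` on an abelian variety. -/
theorem exists_models (A : Over (Spec (CommRingCat.of K))) [GrpObj A] [IsProper A.hom] [GeometricallyIntegral A.hom]
    (l : ℕ) (hl : (l : K) ≠ 0) :
    ∃ (Z W : Scheme.{u}) (q : Z ⟶ Spec (CommRingCat.of R)) (f : W ⟶ Z) (t : A.left ⟶ Z) (w : A.left ⟶ W) (r : R),
      IsProper q ∧ IsProper f ∧ IsPullback t A.hom q (gg R K) ∧ IsPullback w ((𝟙 A) ^ l).left f t ∧ r ≠ 0 ∧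
      ∀ (T : Scheme.{u}) (x : T ⟶ Z), (∀ p : T, r ∉ (q (x p)).asIdeal) → Etale (pullback.snd f x) := by
  obtain ⟨n, j, hj, hj2⟩ := Groth.Agent.S1866.result K A
  have hfl : Flat (gg R K) := flat_gg R K
  have hmono : Mono (gg R K) := mono_gg R K
  have hi : (j ≫ (Groth.Agent.CohqB.ProjBC.projSpaceOverIso n K).inv) ≫ CohB1.ProjSpaceOver.toBase n _ = A.hom := by
    rw [Category.assoc, ← Groth.Agent.CohqB.ProjBC.projSpaceOverIso_hom_toSpec, Iso.inv_hom_id_assoc, hj2]
  obtain ⟨Z, q, t, hq, ht⟩ := Groth.Agent.S3259.exists_proper_model (gg R K) A.left A.hom n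
    (j ≫ (Groth.Agent.CohqB.ProjBC.projSpaceOverIso n K).inv) hi
  obtain ⟨W, f, w, hf, hw⟩ := exists_graph A.hom ((𝟙 A) ^ l).left (Over.w _) q t ht
  have het : Etale ((𝟙 A) ^ l).left := by
    have := Groth.Agent.Grpsch.AbBC.etale_zpow A (d := (l : ℤ)) (by exact_mod_cast hl)
    rwa [zpow_natCast] at this
  have hFPq : Groth.Agent.Ega43.LocusAff.FP q :=
    ⟨LocallyOfFinitePresentation.iff_locallyOfFiniteType.2 inferInstance, inferInstance, inferInstance⟩
  have hFPf : Groth.Agent.Ega43.LocusAff.FP (f ≫ q) :=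
    ⟨LocallyOfFinitePresentation.iff_locallyOfFiniteType.2 inferInstance, inferInstance, inferInstance⟩
  have hinv : Groth.Agent.Ega43.Locus.FpqcInv @Etale.{u} := Groth.Agent.Ega43.Locus.FpqcInv.of_descendsAlong _
  have hdesc : Groth.Agent.Ega43.ResSysSch.DescRow @Etale.{u} := by
    intro I _ _ D c hc _ i₀ _ _ X₀ Y₀ f₀ g₀ _ _ _ _ _ _ X Y f g qY qX hY hX hf
    have : CompactSpace X₀ := QuasiCompact.compactSpace_of_compactSpace (f₀ ≫ g₀)
    exact (Groth.Agent.S5941.result D c hc i₀ f₀ g₀ f g qY qX hY hX).1 hf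
  have hgen : genericPoint (Spec (CommRingCat.of R)) ∈ Groth.Agent.Ega43.Locus.locus @Etale.{u} f q := by
    rw [← gg_closedPoint R K]
    exact (Groth.Agent.Ega43.Locus.mem_locus_iff_of_field hinv ht hw).2 het
  obtain ⟨U, hU, hPU⟩ := Groth.Agent.Sga3.H817.GenericSpread.exists_open_of_generic hinv hdesc f q hFPq hFPf hgen
  obtain ⟨_, ⟨r, rfl⟩, hr, hrU⟩ := PrimeSpectrum.isTopologicalBasis_basic_opens.exists_subset_of_mem_open
    (show genericPoint (Spec (CommRingCat.of R)) ∈ U.1 from hU) U.isOpen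
  refine ⟨Z, W, q, f, t, w, r, hq, hf, ht, hw, ?_, ?_⟩
  · rintro rfl
    exact hr (Ideal.zero_mem _)
  · intro T x hx
    have hxU : Set.range (x ≫ q) ⊆ Set.range U.ι := by
      rw [Scheme.Opens.range_ι]
      rintro _ ⟨p, rfl⟩
      refine hrU ?_
      rw [Scheme.Hom.comp_apply]
      exact hx p
    let c : T ⟶ (U : Scheme.{u}) := IsOpenImmersion.lift U.ι (x ≫ q) hxU
    have hc : c ≫ U.ι = x ≫ q := IsOpenImmersion.lift_fac _ _ _
    let x' : T ⟶ pullback q U.ι := pullback.lift x c hc.symm
    have hx' : x' ≫ pullback.fst q U.ι = x := pullback.lift_fst _ _ _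
    have h1 := (IsPullback.of_hasPullback (Groth.Agent.Ega43.Locus.bcMap f q U.ι) x').paste_horiz
      (Groth.Agent.Ega43.Locus.isPullback_bcMap f q U.ι)
    rw [hx'] at h1
    rw [← h1.isoPullback_inv_snd]
    infer_instance

end models

end K275.Cover
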