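import Groth.Agent.MultTori.K441.Defs
import Groth.Agent.MultTori.K275.Closure
import Groth.Agent.Unram.K147.LQF
import Mathlib.RingTheory.Localization.LocalizationLocalization

/-!
# The theorem of Chevalley and Weil for the multiplication by `l` on abelian varieties

RQ-C1 of the plan for S18688.
-/

set_option autoImplicit false
universe u

open CategoryTheory Limits MonoidalCategory CartesianMonoidalCategory MonObj AlgebraicGeometry

namespace K275.ChevWeil

open K275.Cover K275.DvrAlg Groth.Agent.MultTori.K441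

/-- The valuative criterion of properness. -/
theorem exists_lift {X Y : Scheme.{u}} (f : X ⟶ Y) [IsProper f] (O K : Type u) [CommRing O] [IsDomain O]
    [ValuationRing O] [Field K] [Algebra O K] [IsFractionRing O K] (i₁ : Spec (CommRingCat.of K) ⟶ X)
    (i₂ : Spec (CommRingCat.of O) ⟶ Y)
    (w : i₁ ≫ f = Spec.map (CommRingCat.ofHom (algebraMap O K)) ≫ i₂) :
    ∃ x : Spec (CommRingCat.of O) ⟶ X, Spec.map (CommRingCat.ofHom (algebraMap O K)) ≫ x = i₁ ∧ x ≫ f = i₂ := by
  have h1 : (@UniversallyClosed.{u}) f := inferInstance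
  rw [UniversallyClosed.eq_valuativeCriterion] at h1
  have h2 := h1.1 { R := O, K := K, i₁ := i₁, i₂ := i₂, commSq := ⟨w⟩ }
  exact ⟨h2.exists_lift.some.l, h2.exists_lift.some.fac_left, h2.exists_lift.some.fac_right⟩

section

variable {O K : Type u} [CommRing O] [Field K] [Algebra O K]

/-- A point of a finite étale scheme over a discrete valuation ring as a point of a finite étale algebra. -/
theorem exists_alg {T : Scheme.{u}} (τ : T ⟶ Spec (CommRingCat.of O)) [IsFinite τ] [Etale τ] {Ks : Type u} [Field Ks]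
    [Algebra K Ks] (z : Spec (CommRingCat.of Ks) ⟶ T)
    (hz : z ≫ τ = Spec.map (CommRingCat.ofHom (algebraMap K Ks)) ≫ Spec.map (CommRingCat.ofHom (algebraMap O K))) :
    ∃ (E : Type u) (_ : CommRing E) (_ : Algebra O E) (_ : Module.Finite O E) (_ : Algebra.Etale O E)
      (φ : E →+* Ks), φ.comp (algebraMap O E) = (algebraMap K Ks).comp (algebraMap O K) ∧
        ∀ σ : Ks →+* Ks, (∀ e, σ (φ e) = φ e) → Spec.map (CommRingCat.ofHom σ) ≫ z = z := by
  have : IsAffine T := isAffine_of_isAffineHom τ
  let α : CommRingCat.of O ⟶ Γ(T, ⊤) := Spec.preimage (T.isoSpec.inv ≫ τ)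
  have hα : Spec.map α = T.isoSpec.inv ≫ τ := Spec.map_preimage _
  let : Algebra O Γ(T, ⊤) := α.hom.toAlgebra
  have h1 : IsFinite (Spec.map α) := by rw [hα]; infer_instance
  have h2 : Etale (Spec.map α) := by rw [hα]; infer_instance
  have h3 : α.hom.Finite := (IsFinite.SpecMap_iff _).1 h1
  have h4 : α.hom.Etale := (HasRingHomProperty.Spec_iff (P := @Etale)).1 h2
  let φ : Γ(T, ⊤) ⟶ CommRingCat.of Ks := Spec.preimage (z ≫ T.isoSpec.hom)
  have hφ : Spec.map φ = z ≫ T.isoSpec.hom := Spec.map_preimage _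
  refine ⟨Γ(T, ⊤), inferInstance, inferInstance, h3, h4, φ.hom, ?_, fun σ hσ => ?_⟩
  · have h5 : Spec.map (α ≫ φ) = Spec.map (CommRingCat.ofHom ((algebraMap K Ks).comp (algebraMap O K))) := by
      rw [Spec.map_comp, hφ, hα, Category.assoc, Iso.hom_inv_id_assoc, hz, ← Spec.map_comp]
      rfl
    exact congrArg CommRingCat.Hom.hom (Spec.map_injective h5)
  · rw [← cancel_mono T.isoSpec.hom, Category.assoc, ← hφ, ← Spec.map_comp]
    congr 1
    ext e
    exact hσ e

end

/-- **Chevalley-Weil** for the multiplication by `l`. -/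
theorem chevWeil_of_field (K : Type u) [Field K] : ChevWeil K := by
  intro A _ _ _ _ l _ hl R _ _ _ _ _ hft
  have hnoe : IsNoetherianRing R := Algebra.FiniteType.isNoetherianRing ℤ R
  obtain ⟨Z, W, q, f, t, w, r, hq, hf, ht, hw, hr, het⟩ := exists_models (R := R) A l hl
  refine ⟨r, hr, ?_⟩
  intro Ks _ _ _ p hp hpr x y hy β b hb hβ hfix
  have hP : (Ideal.span {p}).IsPrime := (Ideal.span_singleton_prime hp.ne_zero).2 hp
  let O := Localization.AtPrime (Ideal.span {p})
  have hle : (Ideal.span {p}).primeCompl ≤ nonZeroDivisors R := Ideal.primeCompl_le_nonZeroDivisors _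
  have hdom : IsDomain O := IsLocalization.isDomain_localization hle
  have hinjR : Function.Injective (algebraMap R O) := IsLocalization.injective _ hle
  have hmax : Ideal.span {algebraMap R O p} = IsLocalRing.maximalIdeal O := by
    rw [← Localization.AtPrime.map_eq_maximalIdeal, Ideal.map_span, Set.image_singleton]
  have hp0 : algebraMap R O p ≠ 0 := (map_ne_zero_iff _ hinjR).2 hp.ne_zero
  have hdvr : IsDiscreteValuationRing O := by
    obtain ⟨_, h⟩ := K421.DvrPrincipal.isDiscreteValuationRing_of_principal O (algebraMap R O p) hmax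
      (mem_nonZeroDivisors_of_ne_zero hp0)
    exact h
  have hirr : Irreducible (algebraMap R O p) := (IsDiscreteValuationRing.irreducible_iff_uniformizer _).2 hmax.symm
  let : Algebra O K := (IsLocalization.lift (M := (Ideal.span {p}).primeCompl) (S := O) (g := algebraMap R K)
    (fun s => IsUnit.mk0 _ ((map_ne_zero_iff _ (IsFractionRing.injective R K)).2
      (nonZeroDivisors.ne_zero (hle s.2))))).toAlgebra
  have htower : IsScalarTower R O K := IsScalarTower.of_algebraMap_eq fun a =>
    (IsLocalization.lift_eq (M := (Ideal.span {p}).primeCompl) (S := O) (g := algebraMap R K)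
      (fun s => IsUnit.mk0 _ ((map_ne_zero_iff _ (IsFractionRing.injective R K)).2
        (nonZeroDivisors.ne_zero (hle s.2)))) a).symm
  have hfrac : IsFractionRing O K :=
    IsFractionRing.isFractionRing_of_isDomain_of_isLocalization (Ideal.span {p}).primeCompl O K
  have hg : Spec.map (CommRingCat.ofHom (algebraMap O K)) ≫ Spec.map (CommRingCat.ofHom (algebraMap R O)) =
      gg R K := by
    rw [← Spec.map_comp, ← CommRingCat.ofHom_comp, ← IsScalarTower.algebraMap_eq]
  have hx1 : x.left ≫ A.hom = 𝟙 _ := Over.w x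
  obtain ⟨xO, hxO1, hxO2⟩ := exists_lift q O K (x.left ≫ t) (Spec.map (CommRingCat.ofHom (algebraMap R O))) (by
    rw [Category.assoc, ht.w, reassoc_of% hx1, hg])
  have hrO : IsUnit (algebraMap R O r) :=
    IsLocalization.map_units O (⟨r, fun h => hpr (Ideal.mem_span_singleton.1 h)⟩ : (Ideal.span {p}).primeCompl)
  have hetale : Etale (pullback.snd f xO) := by
    refine het _ xO fun s hs => ?_
    rw [← Scheme.Hom.comp_apply, hxO2] at hs
    exact s.2.ne_top (Ideal.eq_top_of_isUnit_mem _ hs hrO)
  have hlqf : LocallyQuasiFinite (pullback.snd f xO) :=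
    K147.LQF.locallyQuasiFinite_of_etale _
  have hfin : IsFinite (pullback.snd f xO) := IsFinite.of_isProper_of_locallyQuasiFinite _
  have hy' : y.left ≫ ((𝟙 A) ^ l).left = Spec.map (CommRingCat.ofHom (algebraMap K Ks)) ≫ x.left := by
    have h1 : y ≫ (𝟙 A) ^ l = toUnit (SGA7.pt Ks) ≫ x := by
      rw [← hy, comp_pow, Category.comp_id]
    have h2 := congrArg (fun z => z.left) h1
    simp only [Over.comp_left] at h2
    rw [h2]
    congr 1
  let z : Spec (CommRingCat.of Ks) ⟶ pullback f xO :=
    pullback.lift (y.left ≫ w)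
      (Spec.map (CommRingCat.ofHom (algebraMap K Ks)) ≫ Spec.map (CommRingCat.ofHom (algebraMap O K))) (by
        rw [Category.assoc, hw.w, reassoc_of% hy', Category.assoc, hxO1])
  have hz1 : z ≫ pullback.fst f xO = y.left ≫ w := pullback.lift_fst _ _ _
  have hz2 : z ≫ pullback.snd f xO = _ := pullback.lift_snd _ _ _
  obtain ⟨E, _, _, _, _, φ, hφ, hσ⟩ := exists_alg (O := O) (K := K) (pullback.snd f xO) z hz2
  have hgal : ∀ σ : Ks ≃ₐ[K] Ks, (∀ e, σ (φ e) = φ e) → SGA7.galAct σ y = y := fun σ h => by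
    have h1 : Spec.map (CommRingCat.ofHom (σ : Ks →+* Ks)) ≫ z = z := hσ σ h
    have h2 := hw.paste_vert ht
    refine Over.OverMorphism.ext (h2.hom_ext ?_ ?_)
    · change (Spec.map (CommRingCat.ofHom (σ : Ks →+* Ks)) ≫ y.left) ≫ w = y.left ≫ w
      rw [Category.assoc, ← hz1, reassoc_of% h1]
    · have h3 : ((𝟙 A) ^ l).left ≫ A.hom = A.hom := Over.w _
      rw [h3]
      exact (Over.w (SGA7.galAct σ y)).trans (Over.w y).symm
  obtain ⟨n, u, hu⟩ := exists_unit_pow (O := O) (E := E) φ hφ l β b hb hβ (fun σ h => hfix σ (hgal σ h))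
    (algebraMap R O p) hirr
  obtain ⟨s, t', hst⟩ := IsLocalization.exists_mk'_eq (Ideal.span {p}).primeCompl (u : O)
  have hst' : algebraMap R O s = algebraMap R O t' * u := by
    rw [← hst, IsLocalization.mk'_spec']
  refine ⟨n, s, t', ?_, ?_, ?_⟩
  · rintro ⟨c, rfl⟩
    have h1 : IsUnit (algebraMap R O (p * c)) := by
      rw [hst']
      exact (IsLocalization.map_units O t').mul u.isUnit
    rw [map_mul] at h1
    exact hirr.not_isUnit (isUnit_of_mul_isUnit_left h1)
  · exact fun h => t'.2 (Ideal.mem_span_singleton.2 h)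
  · rw [hu, IsScalarTower.algebraMap_apply R O K p, IsScalarTower.algebraMap_apply R O K s,
      IsScalarTower.algebraMap_apply R O K (t' : R), hst', map_mul]
    ring

/-- RQ-C1. -/
theorem chevWeil (K : Type u) [Field K] [Algebra.EssFiniteType ℤ K] : ChevWeil K := chevWeil_of_field K

end K275.ChevWeil
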